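import Mathlib

/-!
# Divisors congruent to `±1` modulo a Fermat prime
-/

set_option autoImplicit false

namespace CfsgLib.BrauerTuan

/-- With `p = 2 ^ m + 1`, a number `2 ^ a * d` with `d ∣ 2 ^ (m - 1) + 1` congruent to a sign
modulo `p` is `2 ^ (m i)` or `2 ^ (m i) (p + 1)`, the sign being `(-1) ^ i`. -/
theorem degree_form {p m d a : ℕ} (hm : 2 ≤ m) (hp : p = 2 ^ m + 1) {ε : ℤ}
    (hε : ε = 1 ∨ ε = -1) (hd : d ∣ 2 ^ (m - 1) + 1)
    (h : ((2 ^ a * d : ℕ) : ℤ) ≡ ε [ZMOD p]) :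
    ∃ i, ((d = 1 ∧ 2 ^ a * d = 2 ^ (m * i)) ∨
      (d = 2 ^ (m - 1) + 1 ∧ 2 ^ a * d = 2 ^ (m * i) * (p + 1))) ∧ ε = (-1) ^ i := by
  obtain ⟨r, i, hr, rfl⟩ : ∃ r i, r < m ∧ a = m * i + r :=
    ⟨a % m, a / m, Nat.mod_lt _ (by omega), (Nat.div_add_mod a m).symm⟩
  have hm1 : 2 ^ m = 2 * 2 ^ (m - 1) := by rw [← pow_succ']; congr 1; omega
  have hle : d ≤ 2 ^ (m - 1) + 1 := Nat.le_of_dvd (by positivity) hd
  have hd0 : 0 < d := Nat.pos_of_dvd_of_pos hd (by positivity)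
  have hodd : ¬ 2 ∣ d := fun h2 => by
    have := h2.trans hd
    have : 2 ∣ 2 ^ (m - 1) := dvd_pow_self 2 (by omega)
    omega
  have hneg : ((2 ^ m : ℕ) : ℤ) ≡ -1 [ZMOD p] :=
    Int.modEq_iff_dvd.2 ⟨-1, by rw [hp]; push_cast; ring⟩
  set σ : ℤ := ε * (-1) ^ i with hσ
  have hσ' : σ = 1 ∨ σ = -1 := by
    rcases hε with h1 | h1 <;> rcases neg_one_pow_eq_or ℤ i with h2 | h2 <;> simp [hσ, h1, h2]
  have h2 : ((2 ^ r * d : ℕ) : ℤ) ≡ σ [ZMOD p] := by
    have h3 : ((2 ^ (m * i + r) * d : ℕ) : ℤ) ≡ (-1) ^ i * ((2 ^ r * d : ℕ) : ℤ) [ZMOD p] := by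
      have e : ((2 ^ (m * i + r) * d : ℕ) : ℤ) = ((2 ^ m : ℕ) : ℤ) ^ i * ((2 ^ r * d : ℕ) : ℤ) := by
        push_cast; rw [pow_add, pow_mul]; ring
      rw [e]
      exact (hneg.pow i).mul_right _
    have h4 := (h3.symm.trans h).mul_left ((-1 : ℤ) ^ i)
    rw [← mul_assoc, ← mul_pow, neg_one_mul, neg_neg, one_pow, one_mul, mul_comm _ ε] at h4
    exact h4
  obtain ⟨z, hz⟩ := Int.modEq_iff_dvd.1 h2
  have hp4 : 4 ≤ 2 ^ m := le_trans (by norm_num) (Nat.pow_le_pow_right two_pos hm)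
  rcases Nat.eq_zero_or_pos r with rfl | hr0
  · simp only [pow_zero, one_mul] at hz
    have hd1 : d = 1 ∧ σ = 1 := by
      rcases hσ' with e | e <;> rw [e] at hz
      · rcases lt_trichotomy z 0 with hz0 | hz0 | hz0
        · have : (p : ℤ) * z ≤ -p := by nlinarith
          omega
        · subst hz0; omega
        · have : (p : ℤ) ≤ p * z := by nlinarith
          omega
      · rcases lt_trichotomy z 0 with hz0 | hz0 | hz0
        · have : (p : ℤ) * z ≤ -p := by nlinarith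
          omega
        · subst hz0; omega
        · have : (p : ℤ) ≤ p * z := by nlinarith
          omega
    refine ⟨i, Or.inl ⟨hd1.1, by rw [hd1.1, mul_one, add_zero]⟩, ?_⟩
    rcases neg_one_pow_eq_or ℤ i with h5 | h5 <;> rw [hσ, h5] at hd1 <;> rw [h5] <;> omega
  · set s := 2 ^ (m - r) with hs
    have hrs : 2 ^ r * s = 2 ^ m := by rw [hs, ← pow_add]; congr 1; omega
    have hs0 : 1 ≤ s := Nat.one_le_two_pow
    have hs_le : s ≤ 2 ^ (m - 1) := Nat.pow_le_pow_right two_pos (by omega)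
    have hs2 : 2 ∣ s := dvd_pow_self 2 (by omega)
    have h6 : -(d : ℤ) ≡ σ * s [ZMOD p] := by
      have e : ((2 ^ r * d : ℕ) : ℤ) * s = d * ((2 ^ m : ℕ) : ℤ) := by
        rw [← hrs]; push_cast; ring
      have h7 : ((2 ^ r * d : ℕ) : ℤ) * s ≡ -(d : ℤ) [ZMOD p] := by
        rw [e]
        simpa using hneg.mul_left (d : ℤ)
      exact h7.symm.trans (h2.mul_right _)
    obtain ⟨w, hw⟩ := Int.modEq_iff_dvd.1 h6
    rcases hσ' with e | e
    · rw [e] at hw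
      have hw1 : w = 1 := by
        rcases lt_trichotomy w 1 with hw0 | hw0 | hw0
        · have : (p : ℤ) * w ≤ 0 := by nlinarith
          omega
        · exact hw0
        · have : (p : ℤ) * 2 ≤ p * w := by nlinarith
          omega
      subst hw1
      have hr1 : r = 1 := by
        by_contra hne
        have hs' : s * 2 ≤ 2 ^ (m - 1) := by
          rw [hs, ← pow_succ]
          exact Nat.pow_le_pow_right two_pos (by omega)
        omega
      subst hr1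
      have hdf : d = 2 ^ (m - 1) + 1 := by omega
      refine ⟨i, Or.inr ⟨hdf, ?_⟩, ?_⟩
      · rw [pow_succ, mul_assoc, hdf, hp, hm1]
        ring
      · rcases neg_one_pow_eq_or ℤ i with h5 | h5 <;> rw [hσ, h5] at e <;> rw [h5] <;> omega
    · exfalso
      rw [e] at hw
      have hw1 : w = 0 := by
        rcases lt_trichotomy w 0 with hw0 | hw0 | hw0
        · have : (p : ℤ) * w ≤ -p := by nlinarith
          omega
        · exact hw0
        · have : (p : ℤ) ≤ p * w := by nlinarith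
          omega
      subst hw1
      exact hodd (by omega)

/-- A short sum of terms `± 2 ^ (m i) u` is divisible by a small power of two only. -/
theorem pow_dvd_sum_bound {ι : Type*} {m : ℕ} (T : Finset ι) (hT : T.Nonempty)
    (hcard : 2 * T.card < 2 ^ m) (i : ι → ℕ) (u : ι → ℤ)
    (hu : ∀ x ∈ T, u x = 1 ∨ u x = 2 ^ m + 2) :
    ∃ x ∈ T, ∀ b : ℕ, (2 : ℤ) ^ b ∣ ∑ x ∈ T, (-(2 ^ m : ℤ)) ^ i x * u x → b < m * i x + m := by
  classical
  obtain ⟨x₀, hx₀, hmin⟩ := Finset.exists_min_image T i hT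
  refine ⟨x₀, hx₀, fun b hb => ?_⟩
  by_contra hlt
  set y : ℤ := -(2 ^ m : ℤ) with hy
  set i₀ := i x₀
  set W := ∑ x ∈ T, y ^ (i x - i₀) * u x with hW
  have hsum : ∑ x ∈ T, y ^ i x * u x = y ^ i₀ * W := by
    rw [hW, Finset.mul_sum]
    refine Finset.sum_congr rfl fun x hx => ?_
    rw [← mul_assoc, ← pow_add, Nat.add_sub_cancel' (hmin x hx)]
  have h1 : (2 : ℤ) ^ m ∣ W := by
    have h2 : (2 : ℤ) ^ (m * i₀) * 2 ^ m ∣ y ^ i₀ * W := by
      rw [← pow_add, ← hsum]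
      exact (pow_dvd_pow _ (not_lt.1 hlt)).trans hb
    have h3 : y ^ i₀ = (-1) ^ i₀ * 2 ^ (m * i₀) := by rw [hy, neg_pow, pow_mul]
    rw [h3, mul_comm ((-1 : ℤ) ^ i₀), mul_assoc] at h2
    have h4 := Int.dvd_of_mul_dvd_mul_left (by positivity) h2
    exact ((isUnit_one.neg.pow i₀).dvd_mul_left).1 h4
  let c : ι → ℤ := fun x => if i x = i₀ then (if u x = 1 then 1 else 2) else 0
  have h5 : (2 : ℤ) ^ m ∣ ∑ x ∈ T, (y ^ (i x - i₀) * u x - c x) := by
    refine Finset.dvd_sum fun x hx => ?_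
    show (2 : ℤ) ^ m ∣ y ^ (i x - i₀) * u x - if i x = i₀ then (if u x = 1 then 1 else 2) else 0
    split_ifs with he hu1
    · simp [he, hu1]
    · rcases hu x hx with h | h
      · exact absurd h hu1
      · simp [he, h]
    · rw [sub_zero]
      refine dvd_mul_of_dvd_left ?_ _
      obtain ⟨k, hk⟩ := Nat.exists_eq_succ_of_ne_zero (n := i x - i₀) (by
        have := hmin x hx
        omega)
      rw [hk, pow_succ, hy]
      exact dvd_mul_of_dvd_right (dvd_neg.2 dvd_rfl) _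
  rw [Finset.sum_sub_distrib, ← hW] at h5
  have h6 : (2 : ℤ) ^ m ∣ ∑ x ∈ T, c x := (dvd_sub_right h1).1 h5
  have hlow : 0 < ∑ x ∈ T, c x := by
    refine Finset.sum_pos' (fun x _ => ?_) ⟨x₀, hx₀, ?_⟩
    · show 0 ≤ if i x = i₀ then (if u x = 1 then (1 : ℤ) else 2) else 0
      split_ifs <;> norm_num
    · show 0 < if i x₀ = i₀ then (if u x₀ = 1 then (1 : ℤ) else 2) else 0
      rw [if_pos rfl]
      split_ifs <;> norm_num
  have hhigh : ∑ x ∈ T, c x ≤ 2 * T.card := by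
    refine (Finset.sum_le_card_nsmul T c 2 fun x _ => ?_).trans (by rw [nsmul_eq_mul]; omega)
    show (if i x = i₀ then (if u x = 1 then (1 : ℤ) else 2) else 0) ≤ 2
    split_ifs <;> norm_num
  have h7 := Int.le_of_dvd hlow h6
  have h8 : ((2 * T.card : ℕ) : ℤ) < ((2 ^ m : ℕ) : ℤ) := by exact_mod_cast hcard
  push_cast at h8
  omega

/-- `2 ^ b ≡ -1` modulo `2 ^ m + 1` and `b < 3 m` give `b = m`. -/
theorem eq_of_pow_modEq {p m b : ℕ} (hm : 2 ≤ m) (hp : p = 2 ^ m + 1)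
    (h : ((2 ^ b : ℕ) : ℤ) ≡ -1 [ZMOD p]) (hb : b < 3 * m) : b = m := by
  have hp4 : 4 ≤ 2 ^ m := le_trans (by norm_num) (Nat.pow_le_pow_right two_pos hm)
  obtain ⟨r, i, hr, rfl⟩ : ∃ r i, r < m ∧ b = m * i + r :=
    ⟨b % m, b / m, Nat.mod_lt _ (by omega), (Nat.div_add_mod b m).symm⟩
  have hi : i < 3 := by
    by_contra h3
    have : m * 3 ≤ m * i := Nat.mul_le_mul_left m (by omega)
    omega
  have hneg : ((2 ^ m : ℕ) : ℤ) ≡ -1 [ZMOD p] :=
    Int.modEq_iff_dvd.2 ⟨-1, by rw [hp]; push_cast; ring⟩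
  have e : ((2 ^ (m * i + r) : ℕ) : ℤ) = ((2 ^ m : ℕ) : ℤ) ^ i * ((2 ^ r : ℕ) : ℤ) := by
    push_cast; rw [pow_add, pow_mul]
  rw [e] at h
  obtain ⟨z, hz⟩ := Int.modEq_iff_dvd.1 (((hneg.pow i).mul_right _).symm.trans h)
  have h2r : 1 ≤ 2 ^ r ∧ 2 * 2 ^ r ≤ 2 ^ m := ⟨Nat.one_le_two_pow,
    by rw [← pow_succ']; exact Nat.pow_le_pow_right two_pos hr⟩
  have hc : ((2 ^ r : ℕ) : ℤ) = (2 : ℤ) ^ r := by push_cast; rfl
  have hz01 : z = 0 := by
    rcases lt_trichotomy z 0 with hz0 | hz0 | hz0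
    · have : (p : ℤ) * z ≤ -p := by nlinarith
      interval_cases i <;> simp at hz <;> omega
    · exact hz0
    · have : (p : ℤ) ≤ p * z := by nlinarith
      interval_cases i <;> simp at hz <;> omega
  subst hz01
  interval_cases i
  · simp at hz; omega
  · have : 2 ^ r = 1 := by simp at hz; omega
    rw [Nat.pow_eq_one] at this
    omega
  · simp at hz; omega

end CfsgLib.BrauerTuan
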