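import Cfsg.Agent.Lib.Perm.ThreePrimeOrder.Average
import Cfsg.Agent.Lib.Perm.SimpleCount
import Cfsg.Agent.Lib.Blocks.Principal
import Cfsg.Agent.Lib.Blocks.PrimeSylow.Setup
import Cfsg.Agent.Lib.Blocks.SimplePrincipal
import Cfsg.Agent.Lib.Char.HalfDegree.Main
import Cfsg.Agent.Lib.Classical.SL2Pair
import Cfsg.Agent.Lib.CharDegree.Basic

/-!
# A small faithful character of the principal block of a simple group
-/

set_option autoImplicit false

namespace CfsgLib.BrauerTuan

open Cfsg CfsgLib.Blocks CfsgLib.Char Subgroup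
open scoped _root_.Classical

variable {G : Type*} [Group G] [Fintype G] [IsSimpleGroup G]

theorem center_eq_bot (hna : ¬ IsMulCommutative G) : Subgroup.center G = ⊥ :=
  (IsSimpleGroup.eq_bot_or_eq_top_of_normal (Subgroup.center G) inferInstance).resolve_right
    fun h => hna ⟨⟨fun a b => Subgroup.mem_center_iff.1 (h ▸ Subgroup.mem_top b) a⟩⟩

theorem perfect (hna : ¬ IsMulCommutative G) : _root_.commutator G = ⊤ := by
  rcases IsSimpleGroup.eq_bot_or_eq_top_of_normal (_root_.commutator G) inferInstance with h | h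
  · exact absurd ⟨⟨fun a b => commutatorElement_eq_one_iff_mul_comm.mp (Subgroup.mem_bot.mp (h ▸
      Subgroup.commutator_mem_commutator (Subgroup.mem_top a) (Subgroup.mem_top b)))⟩⟩ hna
  · exact h

theorem faithful {χ : IrrCharacter G} (hχ : χ ≠ trivChar G) :
    CfsgLib.CharDegree.kerSubgroup χ = ⊥ := by
  rcases (CfsgLib.CharDegree.kerSubgroup_normal χ).eq_bot_or_eq_top with h | h
  · exact h
  · refine absurd (eq_trivChar_of_charKer_eq_top ?_) hχ
    refine (Subgroup.eq_top_iff' _).2 fun g => mem_charKer.2 ?_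
    exact CfsgLib.CharDegree.mem_kerSubgroup.1 (h ▸ Subgroup.mem_top g)

theorem eq_one_of_norm_eq (hna : ¬ IsMulCommutative G) {χ : IrrCharacter G} (hχ : χ ≠ trivChar G)
    {v : G} (h : ‖(χ : G → ℂ) v‖ = charDegree (χ : G → ℂ)) : v = 1 := by
  have := CfsgLib.CharDegree.mem_center_of_norm_eq χ (faithful hχ) h
  rwa [center_eq_bot hna, Subgroup.mem_bot] at this

theorem eq_trivChar_of_degree_one (hna : ¬ IsMulCommutative G) {χ : IrrCharacter G}
    (h : charDegree (χ : G → ℂ) = 1) : χ = trivChar G := by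
  by_contra hχ
  have hk := faithful hχ
  have hall : ∀ g : G, (χ : G → ℂ) g = (χ : G → ℂ) 1 := fun g =>
    CfsgLib.CharDegree.le_ker_of_degree_one χ h (perfect hna ▸ Subgroup.mem_top g) |>.trans rfl
  exact hna ⟨⟨fun a b => by
    have ha := CfsgLib.CharDegree.kerSubgroup_eq_bot_iff.1 hk a (hall a)
    rw [ha, one_mul, mul_one]⟩⟩

theorem center_le_card {n : ℕ} [Fact n.Prime] (hn : n ≠ 2) :
    Nat.card (Subgroup.center (Matrix.SpecialLinearGroup (Fin 2) (ZMod n))) = 2 := by
  haveI : NeZero n := ⟨(Fact.out : n.Prime).ne_zero⟩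
  rw [Nat.card_congr (Matrix.SpecialLinearGroup.center_equiv_rootsOfUnity' (⟨0, by norm_num⟩ : Fin 2)).toEquiv,
    Fintype.card_fin, Nat.card_eq_fintype_card]
  suffices h : IsPrimitiveRoot (-1 : ZMod n) 2 by simpa using h.card_rootsOfUnity
  refine IsPrimitiveRoot.iff_orderOf.2 (orderOf_eq_prime (by simp) ?_)
  intro h
  have h2 : ((2 : ℕ) : ZMod n) = 0 := by push_cast; linear_combination -h
  exact hn ((Nat.prime_dvd_prime_iff_eq Fact.out Nat.prime_two).1
    ((ZMod.natCast_eq_zero_iff _ _).1 h2))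

theorem card_psl {n : ℕ} [Fact n.Prime] (hn : n ≠ 2) :
    2 * Nat.card (Matrix.ProjectiveSpecialLinearGroup (Fin 2) (ZMod n)) = n * (n ^ 2 - 1) := by
  haveI : NeZero n := ⟨(Fact.out : n.Prime).ne_zero⟩
  have h := Subgroup.card_eq_card_quotient_mul_card_subgroup
    (Subgroup.center (Matrix.SpecialLinearGroup (Fin 2) (ZMod n)))
  rw [center_le_card hn, CfsgLib.Classical.SL2Pair.card_SL_two (ZMod n), ZMod.card] at h
  rw [h, mul_comm]

/-- A principal block character of degree less than `p` shows that `P` is self-centralizing. -/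
theorem centralizer_eq (hna : ¬ IsMulCommutative G) {p : ℕ} [Fact p.Prime] (P : Sylow p G)
    (hP : Nat.card (P : Subgroup G) = p) {M : Ideal AlgInt} [M.IsPrime] (hM : IsPModular p M)
    {χ : IrrCharacter G} (hB : χ ∈ principalBlock M G) (hχ : χ ≠ trivChar G)
    (hdeg : charDegree (χ : G → ℂ) < p) :
    centralizer ((P : Subgroup G) : Set G) = (P : Subgroup G) := by
  have hp : p.Prime := Fact.out
  obtain ⟨V, hV⟩ := CfsgLib.Blocks.PrimeSylow.exists_setup hP P.not_dvd_index
  refine le_antisymm (fun c hc => ?_) hV.le_centralizer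
  obtain ⟨x, hx, v, hv, rfl⟩ := hV.exists_mul hc
  suffices v = 1 by rw [this, mul_one]; exact hx
  obtain ⟨⟨y, hy⟩, hy1'⟩ : ∃ y : (P : Subgroup G), y ≠ 1 := by
    have : Nontrivial (P : Subgroup G) := Finite.one_lt_card_iff_nontrivial.1 (by rw [hP]; exact hp.one_lt)
    exact exists_ne 1
  have hy1 : y ≠ 1 := fun h => hy1' (Subtype.ext h)
  refine eq_one_of_norm_eq hna hχ ?_
  rw [CfsgLib.Perm.ThreePrimeOrder.apply_eq_of_deg_lt χ hp (y := y) (v := v) (hV.pow_eq_one hy) hdeg
    fun i hi hi0 => ?_, ← CfsgLib.CharDegree.cast_irrDegree, Complex.norm_natCast]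
  have hyi : y ^ i ∈ (P : Subgroup G) := pow_mem hy i
  have hyi1 : y ^ i ≠ 1 := pow_ne_one_of_lt_orderOf hi0 (by rw [hV.orderOf_eq hy hy1]; exact hi)
  have hC := hV.centralizer_singleton hyi hyi1
  have hVle : V ≤ centralizer ({y ^ i} : Set G) := hC ▸ hV.V_le
  haveI : (V.subgroupOf (centralizer ({y ^ i} : Set G))).Normal := ⟨fun w hw c => by
    rw [mem_subgroupOf] at hw ⊢
    refine hV.conj_mem ?_ hw
    have hc : (c : G) ∈ centralizer ((P : Subgroup G) : Set G) := hC ▸ c.2
    exact Subgroup.centralizer_le_normalizer _ hc⟩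
  refine apply_mul_eq_of_mem_principalBlock hM ⟨1, by rw [hV.orderOf_eq hyi hyi1, pow_one]⟩ hB
    (N := V.subgroupOf (centralizer ({y ^ i} : Set G))) ?_ (v := ⟨v, hVle hv⟩) ?_
  · intro hd
    obtain ⟨w, hw⟩ := exists_prime_orderOf_dvd_card' p hd
    refine hV.not_dvd_orderOf (mem_subgroupOf.1 w.2) ?_
    rw [Subgroup.orderOf_coe, Subgroup.orderOf_coe, hw]
  · rw [mem_subgroupOf]
    exact hv

end CfsgLib.BrauerTuan
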