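import Cfsg.Agent.Lib.Blocks.Orthogonality
import Cfsg.Agent.Lib.Perm.CharAverage
import Cfsg.Agent.Lib.Char.Complete
import Cfsg.Agent.Lib.CharDegree.Basic

/-!
# The parts in different blocks of a combination vanishing on the singular elements
-/

set_option autoImplicit false

namespace CfsgLib.BrauerTuan

open Cfsg CfsgLib.Blocks
open scoped ComplexConjugate

variable {G : Type*} [Group G] [Fintype G] [Fintype (IrrCharacter G)] {q : ℕ} {M : Ideal AlgInt}
  [M.IsPrime]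

/-- The parts in different blocks of a combination vanishing on the `q`-singular elements vanish
there separately. -/
theorem sum_block_singular (hM : IsPModular q M) {B : Set (IrrCharacter G)} (hB : IsPBlock M B)
    (D : IrrCharacter G → ℂ) (hD : ∀ g, q ∣ orderOf g → ∑ ξ, D ξ * (ξ : G → ℂ) g = 0) {g : G}
    (hg : q ∣ orderOf g) : ∑ ξ ∈ (Set.toFinite B).toFinset, D ξ * (ξ : G → ℂ) g = 0 := by
  classical
  set S := (Set.toFinite B).toFinset
  set F : G → ℂ := fun y => ∑ ξ ∈ S, D ξ * (ξ : G → ℂ) y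
  set R : G → ℂ := fun y => ∑ ξ ∈ Sᶜ, D ξ * (ξ : G → ℂ) y
  set W := Finset.univ.filter fun y : G => q ∣ orderOf y
  have hsplit : ∀ ψ ξ : IrrCharacter G, ¬ SameBlock M (ψ : G → ℂ) (ξ : G → ℂ) →
      ∑ y ∈ W, (ψ : G → ℂ) y * (ξ : G → ℂ) y⁻¹ = 0 := by
    intro ψ ξ hs
    have hne : ψ ≠ ξ := by
      rintro rfl
      exact hs (mem_blockOf_self ψ)
    have h1 : ∑ y : G, (ψ : G → ℂ) y * (ξ : G → ℂ) y⁻¹ = 0 := by
      have h := Char.classInner_irr_of_ne hne
      rw [Cfsg.classInner, mul_eq_zero] at h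
      rw [← h.resolve_left (inv_ne_zero (Nat.cast_ne_zero.2 Nat.card_pos.ne'))]
      exact Finset.sum_congr rfl fun y _ => by rw [Char.IsIrr.map_inv ξ.2]
    rw [← Finset.sum_filter_add_sum_filter_not Finset.univ (fun y : G => q ∣ orderOf y),
      sum_regular_eq_zero hM hs, add_zero] at h1
    exact h1
  have h0 : ∑ y ∈ W, F y * conj (R y) = 0 := by
    simp only [F, R, map_sum, map_mul, Finset.sum_mul, Finset.mul_sum]
    rw [Finset.sum_comm]
    refine Finset.sum_eq_zero fun ξ hξ => ?_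
    rw [Finset.sum_comm]
    refine Finset.sum_eq_zero fun ψ hψ => ?_
    rw [Finset.mem_compl, Set.Finite.mem_toFinset] at hξ
    rw [Set.Finite.mem_toFinset] at hψ
    have h := hsplit ψ ξ fun hs => hξ (by rw [IsPBlock.eq_blockOf hB hψ]; exact hs)
    calc ∑ y ∈ W, D ψ * (ψ : G → ℂ) y * (conj (D ξ) * conj ((ξ : G → ℂ) y))
        = D ψ * conj (D ξ) * ∑ y ∈ W, (ψ : G → ℂ) y * (ξ : G → ℂ) y⁻¹ := by
          rw [Finset.mul_sum]
          refine Finset.sum_congr rfl fun y _ => ?_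
          rw [Char.IsIrr.map_inv ξ.2]
          ring
      _ = 0 := by rw [h, mul_zero]
  have h1 : ∀ y ∈ W, R y = -F y := fun y hy => eq_neg_of_add_eq_zero_right (by
    show F y + R y = 0
    rw [← hD y (Finset.mem_filter.1 hy).2]
    exact Finset.sum_add_sum_compl S _)
  have h2 : ∑ y ∈ W, Complex.normSq (F y) = 0 := by
    apply Complex.ofReal_injective
    rw [Complex.ofReal_sum, Complex.ofReal_zero, ← neg_eq_zero, ← Finset.sum_neg_distrib, ← h0]
    exact Finset.sum_congr rfl fun y hy => by rw [h1 y hy, map_neg, mul_neg, Complex.mul_conj]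
  exact Complex.normSq_eq_zero.1 ((Finset.sum_eq_zero_iff_of_nonneg fun y _ =>
    Complex.normSq_nonneg _).1 h2 g (Finset.mem_filter.2 ⟨Finset.mem_univ _, hg⟩))

/-- An integral combination vanishing on the nonidentity elements of a subgroup has value at one
divisible by the order of the subgroup. -/
theorem card_dvd_of_vanish (Q : Subgroup G) (S : Finset (IrrCharacter G)) (D : IrrCharacter G → ℤ)
    (hv : ∀ y ∈ Q, y ≠ 1 → ∑ ξ ∈ S, (D ξ : ℂ) * (ξ : G → ℂ) y = 0) :
    (Nat.card Q : ℤ) ∣ ∑ ξ ∈ S, D ξ * (charDegree (ξ : G → ℂ) : ℤ) := by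
  classical
  have := Fintype.ofFinite Q
  have hc : ∀ ξ : IrrCharacter G, ∃ d : ℕ, ∑ y : Q, (ξ : G → ℂ) y = (Nat.card Q : ℂ) * d :=
    fun ξ => Perm.CharAverage.exists_sum_eq Q (Char.IsIrr.isCharacter ξ.2)
  choose d hd using hc
  refine ⟨∑ ξ ∈ S, D ξ * (d ξ : ℤ), ?_⟩
  have key : ((∑ ξ ∈ S, D ξ * (charDegree (ξ : G → ℂ) : ℤ) : ℤ) : ℂ) =
      (((Nat.card Q : ℤ) * ∑ ξ ∈ S, D ξ * (d ξ : ℤ) : ℤ) : ℂ) := by
    have h1 : ∑ y : Q, ∑ ξ ∈ S, (D ξ : ℂ) * (ξ : G → ℂ) y =
        ∑ ξ ∈ S, (D ξ : ℂ) * (ξ : G → ℂ) 1 := by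
      rw [Finset.sum_eq_single (1 : Q) (fun y _ hy => hv y y.2 fun e => hy (Subtype.ext e))
        fun h => absurd (Finset.mem_univ _) h]
      rfl
    rw [Finset.sum_comm] at h1
    push_cast
    rw [Finset.mul_sum]
    simp only [CharDegree.cast_irrDegree]
    rw [← h1]
    refine Finset.sum_congr rfl fun ξ _ => ?_
    rw [← Finset.mul_sum, hd]
    ring
  exact_mod_cast key

end CfsgLib.BrauerTuan
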