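import Cfsg.Agent.Lib.Recog.BrauerTuan.Minus
import Cfsg.Agent.Lib.Perm.FewSylowRecog
import Cfsg.Agent.Lib.Blocks.PrimeSylow.SmallDegree
import Cfsg.Agent.Lib.Char.HalfDegree.Main
import Cfsg.Agent.S4441

/-!
# Brauer and Tuan: simple groups of order `p q ^ b g₀` with `g₀ < p - 1`
-/

set_option autoImplicit false

namespace CfsgLib.BrauerTuan

open Cfsg CfsgLib.Blocks CfsgLib.Char Subgroup
open scoped _root_.Classical

theorem isCyclic_of_comm {G : Type*} [Group G] [Finite G] [IsSimpleGroup G] (h : IsMulCommutative G) :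
    IsCyclic G := by
  let _ : CommGroup G := { (inferInstance : Group G) with mul_comm := h.is_comm.comm }
  infer_instance

theorem main {G : Type*} [Group G] [Fintype G] [IsSimpleGroup G] (hna : ¬ IsMulCommutative G)
    {p q b g₀ : ℕ} (hp : p.Prime) (hq : q.Prime) (hpq : p ≠ q)
    (hcard : Nat.card G = p * q ^ b * g₀) (hg : g₀ < p - 1) :
    (∃ (m : ℕ) (F : Type) (_ : Field F) (_ : Fintype F), Fintype.card F = p ∧ (p = 2 ^ m + 1 ∨ p = 2 ^ m - 1) ∧
        Nonempty (G ≃* Matrix.ProjectiveSpecialLinearGroup (Fin 2) F)) ∨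
      (∃ (m : ℕ) (F : Type) (_ : Field F) (_ : Fintype F), Fintype.card F = 2 ^ m ∧ p = 2 ^ m + 1 ∧ 3 < p ∧
        Nonempty (G ≃* Matrix.ProjectiveSpecialLinearGroup (Fin 2) F)) := by
  haveI := Fact.mk hp
  haveI := Fintype.ofFinite (IrrCharacter G)
  have hg0 : 0 < g₀ := Nat.pos_of_ne_zero fun h => by
    rw [h, mul_zero] at hcard
    exact Nat.card_pos.ne' hcard
  have hp2 : p ≠ 2 := by omega
  have hpq' : ¬ p ∣ q ^ b := fun h =>
    hpq ((Nat.prime_dvd_prime_iff_eq hp hq).1 (hp.dvd_of_dvd_pow h))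
  have hpg : ¬ p ∣ g₀ := fun h => by have := Nat.le_of_dvd hg0 h; omega
  have hpR : ¬ p ∣ q ^ b * g₀ := fun h => (hp.dvd_mul.1 h).elim hpq' hpg
  have hsq : ¬ p ^ 2 ∣ Nat.card G := by
    rw [hcard, sq, mul_assoc]
    exact fun h => hpR ((Nat.mul_dvd_mul_iff_left hp.pos).1 h)
  have hdiv : p ∣ Nat.card G := ⟨q ^ b * g₀, by rw [hcard, mul_assoc]⟩
  obtain ⟨P⟩ : Nonempty (Sylow p G) := inferInstance
  have hP : Nat.card (P : Subgroup G) = p := by
    rw [CfsgLib.Perm.sylow_card_eq P (k := 1) (m := q ^ b * g₀) (by rw [hcard]; ring) hpR, pow_one]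
  obtain ⟨M, hM⟩ := CfsgLib.ZStar.exists_isPModular hp
  haveI := hM.2.1.isPrime
  set e := (centralizer ((P : Subgroup G) : Set G)).relIndex (normalizer ((P : Subgroup G) : Set G))
    with he
  obtain ⟨V, hV⟩ := CfsgLib.Blocks.PrimeSylow.exists_setup hP P.not_dvd_index
  have hedvd : e ∣ p - 1 := hV.centralizer_relIndex_dvd
  have hepos : 0 < e := Nat.pos_of_dvd_of_pos hedvd (by omega)
  have hele : e ≤ p - 1 := Nat.le_of_dvd (by omega) hedvd
  obtain ⟨X, Y, hB, hdisj, hXc, hYc, εX, ε, hX, hε, hYdeg, hYagree, hrel⟩ :=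
    Cfsg.Agent.S4441.result p M hM hp2 P hP e rfl
  obtain ⟨t, ht⟩ : ∃ t, p - 1 = e * t := id hedvd
  have htY : (p - 1) / e = t := by rw [ht, Nat.mul_div_cancel_left _ hepos]
  rw [htY] at hYc
  have ht0 : 0 < t := Nat.pos_of_ne_zero fun h => by rw [h, mul_zero] at ht; omega
  set X' := (Set.toFinite X).toFinset with hX'
  have hmemX : ∀ χ, χ ∈ X' ↔ χ ∈ X := fun χ => Set.Finite.mem_toFinset _
  have hrel' : ∀ θ ∈ Y, ∀ g : G, ¬ p ∣ orderOf g →
      (ε : ℂ) * (θ : G → ℂ) g = ∑ χ ∈ X', (εX χ : ℂ) * (χ : G → ℂ) g := by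
    intro θ hθ g hg
    rw [hrel θ hθ g hg, finsum_mem_eq_finite_toFinset_sum _ (Set.toFinite _)]
  have htriv : trivChar G ∈ X ∪ Y := hB ▸ CfsgLib.ZStar.trivChar_mem_principalBlock
  have hone : charDegree ((trivChar G : IrrCharacter G) : G → ℂ) = 1 :=
    CharDegree.charDegree_eq_of_apply_one (by simp [trivChar_apply])
  have hsmall : ∀ z : ℤ, (p : ℤ) ∣ z → |z| < p → z = 0 := fun z hz hlt =>
    Int.eq_zero_of_abs_lt_dvd hz hlt
  have hdeg1 : ∀ θ ∈ Y, (ε : ℤ) * (charDegree (θ : G → ℂ) : ℤ) =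
      ∑ χ ∈ X', εX χ * (charDegree (χ : G → ℂ) : ℤ) := by
    intro θ hθ
    have h := hrel' θ hθ 1 (by rw [orderOf_one]; exact hp.not_dvd_one)
    simp only [← CharDegree.cast_irrDegree] at h
    exact_mod_cast h
  -- the degrees of the members
  have hXdeg : ∀ χ ∈ X, χ ≠ trivChar G → q ∣ charDegree (χ : G → ℂ) := by
    intro χ hχ hne
    by_contra hq'
    obtain ⟨hs, hmod, -⟩ := hX χ hχ
    obtain ⟨z, hz⟩ := Int.modEq_iff_dvd.1 hmod
    set d := charDegree (χ : G → ℂ) with hd
    have hd0 : 0 < d := CharDegree.charDegree_pos χ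
    have hd1 : d ≠ 1 := fun h => hne (eq_trivChar_of_degree_one hna h)
    have hpd : ¬ p ∣ d := fun h => by
      have h1 : (p : ℤ) ∣ εX χ := by
        rw [show εX χ = (εX χ - d) + d by ring]
        exact dvd_add ⟨z, hz⟩ (Int.natCast_dvd_natCast.2 h)
      have := hsmall _ h1 (by have := hp.two_le; rcases hs with e1 | e1 <;> rw [e1, abs_lt] <;> omega)
      omega
    have hdvd := CharDegree.charDegree_dvd_card χ
    rw [hcard, mul_assoc] at hdvd
    have h2 : d ∣ g₀ := ((hq.coprime_iff_not_dvd.2 hq').symm.pow_right b).dvd_of_dvd_mul_left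
      (((hp.coprime_iff_not_dvd.2 hpd).symm).dvd_of_dvd_mul_left hdvd)
    have := Nat.le_of_dvd hg0 h2
    have h3 := hsmall _ ⟨z, hz⟩ (by rcases hs with e1 | e1 <;> rw [e1, abs_lt] <;> omega)
    rcases hs with e1 | e1 <;> omega
  -- the trivial character is not exceptional
  have he1 : e + 1 ≠ p → trivChar G ∈ X := by
    intro hne
    refine htriv.resolve_right fun hY => ?_
    have h := Int.modEq_iff_dvd.1 (hYdeg _ hY)
    rw [hone] at h
    rcases eq_or_lt_of_le (show 1 ≤ e by omega) with h1 | h1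
    · have h1' : e = 1 := h1.symm
      rw [h1', one_mul] at ht
      obtain ⟨⟨a, ha⟩, ⟨c, hc⟩, hac⟩ :=
        (Finite.one_lt_card_iff_nontrivial.1 (show 1 < Nat.card Y by omega)).exists_pair_ne
      have key : ∀ w ∈ Y, w = trivChar G := by
        intro w hw
        refine eq_trivChar_of_degree_one hna ?_
        have h2 := hYagree w hw _ hY 1 (by rw [orderOf_one]; exact hp.not_dvd_one)
        rw [trivChar_apply] at h2
        exact CharDegree.charDegree_eq_of_apply_one (by rw [h2, Nat.cast_one])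
      exact hac (Subtype.ext ((key a ha).trans (key c hc).symm))
    · have := hsmall _ h (by rcases hε with e1 | e1 <;> rw [e1, abs_lt] <;> omega)
      rcases hε with e1 | e1 <;> rw [e1] at this <;> omega
  have htop : e + 1 ≠ p := by
    intro hep
    -- then every nonprincipal member has degree divisible by `q`
    have ht1 : t = 1 := by
      have h : e * t = e * 1 := by omega
      exact Nat.eq_of_mul_eq_mul_left hepos h
    rw [ht1] at hYc
    obtain ⟨⟨θ₀, hθ₀⟩, huniq⟩ := Nat.card_eq_one_iff_exists.1 hYc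
    have h1 := hdeg1 θ₀ hθ₀
    have hYdvd : θ₀ ≠ trivChar G → q ∣ charDegree (θ₀ : G → ℂ) := by
      intro hne
      by_contra hq'
      obtain ⟨z, hz⟩ := Int.modEq_iff_dvd.1 (hYdeg θ₀ hθ₀)
      set d := charDegree (θ₀ : G → ℂ) with hd
      have hd0 : 0 < d := CharDegree.charDegree_pos θ₀
      have hd1 : d ≠ 1 := fun h => hne (eq_trivChar_of_degree_one hna h)
      have hpd : ¬ p ∣ d := fun h => by
        have h1 : (p : ℤ) ∣ ε * e := by
          rw [show ε * (e : ℤ) = (ε * e - d) + d by ring]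
          exact dvd_add ⟨z, hz⟩ (Int.natCast_dvd_natCast.2 h)
        have := hsmall _ h1 (by rcases hε with e1 | e1 <;> rw [e1, abs_lt] <;> omega)
        rcases hε with e1 | e1 <;> rw [e1] at this <;> omega
      have hdvd := CharDegree.charDegree_dvd_card θ₀
      rw [hcard, mul_assoc] at hdvd
      have h2 : d ∣ g₀ := ((hq.coprime_iff_not_dvd.2 hq').symm.pow_right b).dvd_of_dvd_mul_left
        (((hp.coprime_iff_not_dvd.2 hpd).symm).dvd_of_dvd_mul_left hdvd)
      have := Nat.le_of_dvd hg0 h2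
      rcases hε with e1 | e1
      · subst e1
        have h3 := hsmall ((1 : ℤ) * e - d) ⟨z, hz⟩ (by rw [abs_lt]; omega)
        omega
      · subst e1
        have h4 : (p : ℤ) ∣ (d : ℤ) - 1 := ⟨-(z + 1), by
          have hpe : (p : ℤ) = e + 1 := by omega
          linear_combination (-1 : ℤ) * hz + hpe⟩
        have h3 := hsmall ((d : ℤ) - 1) h4 (by rw [abs_lt]; omega)
        omega
    have hT : (q : ℤ) ∣ 1 := by
      rcases htriv with hTX | hTY
      · have hθne : θ₀ ≠ trivChar G := fun h => Set.disjoint_left.1 hdisj hTX (h ▸ hθ₀)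
        have h2 : (q : ℤ) ∣ εX (trivChar G) := by
          rw [← Finset.add_sum_erase _ _ ((hmemX _).2 hTX), hone, Nat.cast_one, mul_one] at h1
          rw [show εX (trivChar G) = ε * (charDegree (θ₀ : G → ℂ) : ℤ) -
            ∑ χ ∈ X'.erase (trivChar G), εX χ * (charDegree (χ : G → ℂ) : ℤ) by rw [h1]; ring]
          exact dvd_sub (dvd_mul_of_dvd_right (Int.natCast_dvd_natCast.2 (hYdvd hθne)) _)
            (Finset.dvd_sum fun χ hχ => dvd_mul_of_dvd_right (Int.natCast_dvd_natCast.2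
              (hXdeg χ ((hmemX χ).1 (Finset.mem_of_mem_erase hχ)) (Finset.ne_of_mem_erase hχ))) _)
        rcases (hX _ hTX).1 with e1 | e1 <;> rw [e1] at h2
        · exact h2
        · exact (dvd_neg).1 h2
      · have h0 : θ₀ = trivChar G := congrArg Subtype.val (huniq ⟨trivChar G, hTY⟩).symm
        have h2 : (q : ℤ) ∣ ε := by
          rw [h0, hone, Nat.cast_one, mul_one] at h1
          rw [h1]
          refine Finset.dvd_sum fun χ hχ => dvd_mul_of_dvd_right (Int.natCast_dvd_natCast.2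
            (hXdeg χ ((hmemX χ).1 hχ) fun h => ?_)) _
          exact Set.disjoint_left.1 hdisj ((hmemX χ).1 hχ) (h ▸ hTY)
        rcases hε with e1 | e1 <;> rw [e1] at h2
        · exact h2
        · exact (dvd_neg).1 h2
    exact hq.not_dvd_one (by exact_mod_cast hT)
  have ht2 : 2 ≤ t := by
    rcases Nat.lt_or_ge t 2 with h | h
    · have : t = 1 := by omega
      rw [this, mul_one] at ht
      omega
    · exact h
  have hes : 2 * e + 1 ≤ p := by
    have : e * 2 ≤ e * t := Nat.mul_le_mul_left e ht2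
    omega
  have hTX := he1 htop
  have hεT : εX (trivChar G) = 1 := by
    obtain ⟨hs, hmod, -⟩ := hX _ hTX
    have h := Int.modEq_iff_dvd.1 hmod
    rw [hone] at h
    rcases hs with e1 | e1
    · exact e1
    · rw [e1] at h
      have := hsmall _ h (by norm_num; omega)
      omega
  obtain ⟨θ, hθ⟩ : ∃ θ, θ ∈ Y := by
    obtain ⟨⟨w, hw⟩⟩ := (Nat.card_pos_iff.1 (show 0 < Nat.card Y by omega)).1
    exact ⟨w, hw⟩
  have hθne : θ ≠ trivChar G := fun h => Set.disjoint_left.1 hdisj hTX (h ▸ hθ)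
  have hθ1 := hdeg1 θ hθ
  rw [← Finset.add_sum_erase _ _ ((hmemX _).2 hTX), hone, hεT, Nat.cast_one, one_mul] at hθ1
  set f := charDegree (θ : G → ℂ) with hf
  have hf0 : 0 < f := CharDegree.charDegree_pos θ
  have hf1 : f ≠ 1 := fun h => hθne (eq_trivChar_of_degree_one hna h)
  have he2 : 2 ≤ e := by
    by_contra h
    have hX1 : X'.erase (trivChar G) = ∅ := by
      rw [← Finset.card_eq_zero, Finset.card_erase_of_mem ((hmemX _).2 hTX), hX',
        ← Set.ncard_eq_toFinset_card _ _, ← Nat.card_coe_set_eq, hXc]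
      omega
    rw [hX1, Finset.sum_empty, add_zero] at hθ1
    rcases hε with e1 | e1 <;> rw [e1] at hθ1 <;> omega
  have hqdvd : (q : ℤ) ∣ ∑ χ ∈ X'.erase (trivChar G), εX χ * (charDegree (χ : G → ℂ) : ℤ) :=
    Finset.dvd_sum fun χ hχ => dvd_mul_of_dvd_right (Int.natCast_dvd_natCast.2
      (hXdeg χ ((hmemX χ).1 (Finset.mem_of_mem_erase hχ)) (Finset.ne_of_mem_erase hχ))) _
  have hqf : ¬ q ∣ f := fun h => by
    have h2 : (q : ℤ) ∣ 1 := by
      rw [show (1 : ℤ) = ε * (f : ℤ) - ∑ χ ∈ X'.erase (trivChar G), εX χ * (charDegree (χ : G → ℂ) : ℤ) by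
        rw [hθ1]; ring]
      exact dvd_sub (dvd_mul_of_dvd_right (Int.natCast_dvd_natCast.2 h) _) hqdvd
    exact hq.not_dvd_one (by exact_mod_cast h2)
  obtain ⟨z, hz⟩ := Int.modEq_iff_dvd.1 (hYdeg θ hθ)
  have hpf : ¬ p ∣ f := fun h => by
    have h1 : (p : ℤ) ∣ ε * e := by
      rw [show ε * (e : ℤ) = (ε * e - f) + f by ring]
      exact dvd_add ⟨z, hz⟩ (Int.natCast_dvd_natCast.2 h)
    have := hsmall _ h1 (by rcases hε with e1 | e1 <;> rw [e1, abs_lt] <;> omega)
    rcases hε with e1 | e1 <;> rw [e1] at this <;> omega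
  have hfg : f ∣ g₀ := by
    have hdvd := CharDegree.charDegree_dvd_card θ
    rw [hcard, mul_assoc] at hdvd
    exact ((hq.coprime_iff_not_dvd.2 hqf).symm.pow_right b).dvd_of_dvd_mul_left
      (((hp.coprime_iff_not_dvd.2 hpf).symm).dvd_of_dvd_mul_left hdvd)
  have hfle : f ≤ g₀ := Nat.le_of_dvd hg0 hfg
  have hθB : θ ∈ principalBlock M G := by rw [hB]; exact Or.inr hθ
  have hcent := centralizer_eq hna P hP hM hθB hθne (by omega)
  rcases hε with hε1 | hε1
  · -- degree `e`
    have hfe : f = e := by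
      have h := hsmall ((e : ℤ) - f) ⟨z, by rw [← hz, hε1]; ring⟩ (by rw [abs_lt]; omega)
      omega
    have h2 : 2 * f + 1 = p := by
      by_contra hne
      obtain ⟨⟨x, hx⟩, hx1⟩ : ∃ x : (P : Subgroup G), x ≠ 1 := by
        have : Nontrivial (P : Subgroup G) := Finite.one_lt_card_iff_nontrivial.1 (by rw [hP]; exact hp.one_lt)
        exact exists_ne 1
      refine hx1 (Subtype.ext (eq_one_of_norm_eq hna hθne ?_))
      refine hV.norm_eq_of_small hM (fun H hH hPH => ?_) θ (by rw [← hf]; omega) hx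
      refine (IsSimpleGroup.eq_bot_or_eq_top_of_normal H hH).resolve_left fun hbot => ?_
      rw [hbot, le_bot_iff] at hPH
      rw [hPH, Subgroup.card_bot] at hP
      omega
    have hnn : ∀ H : Subgroup G, H.Normal → Nat.card H ≠ p := by
      intro H hH hHp
      rcases IsSimpleGroup.eq_bot_or_eq_top_of_normal H hH with h | h <;> subst h
      · rw [Subgroup.card_bot] at hHp; omega
      · rw [Subgroup.card_top] at hHp
        exact hna (haveI : IsCyclic G := isCyclic_of_prime_card hHp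
          IsCyclic.isMulCommutative)
    obtain ⟨iso⟩ := CfsgLib.Char.HalfDegree.quotient_center p hp hdiv hsq hnn (θ : G → ℂ)
      (IsIrr.isCharacter θ.2) (CfsgLib.CharDegree.kerSubgroup_eq_bot_iff.1 (faithful hθne)) h2
    let iso' : G ≃* Matrix.ProjectiveSpecialLinearGroup (Fin 2) (ZMod p) :=
      ((QuotientGroup.quotientMulEquivOfEq (center_eq_bot hna)).trans QuotientGroup.quotientBot).symm.trans iso
    haveI : NeZero p := ⟨hp.ne_zero⟩
    have hc := card_psl (n := p) hp2
    rw [← Nat.card_congr iso'.toEquiv, hcard] at hc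
    have hgf : g₀ = f := by
      obtain ⟨c, hc'⟩ := hfg
      rcases c with _ | _ | c
      · omega
      · omega
      · have : f * 2 ≤ f * (c + 1 + 1) := Nat.mul_le_mul_left f (by omega)
        omega
    subst hgf
    have hp21 : p ^ 2 - 1 = (p - 1) * (p + 1) := by
      rw [mul_comm, ← Nat.sq_sub_sq, one_pow]
    have hqb : q ^ b = p + 1 := by
      rw [hp21, show p - 1 = 2 * f by omega] at hc
      have h3 : p * f * 2 * q ^ b = p * f * 2 * (p + 1) := by linarith
      exact Nat.eq_of_mul_eq_mul_left (by have := hp.pos; positivity) h3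
    have hb0 : b ≠ 0 := fun h => by rw [h, pow_zero] at hqb; omega
    have h2q : q = 2 := by
      have h4 : 2 ∣ q ^ b := by
        rw [hqb]
        rcases hp.eq_two_or_odd with h | h
        · omega
        · omega
      exact ((Nat.prime_dvd_prime_iff_eq Nat.prime_two hq).1 (Nat.prime_two.dvd_of_dvd_pow h4)).symm
    subst h2q
    exact Or.inl ⟨b, ZMod p, inferInstance, inferInstance, ZMod.card p, Or.inr (by omega), ⟨iso'⟩⟩
  · -- degree `p - e`
    have hfe : f + e = p := by
      have h : (p : ℤ) ∣ (f : ℤ) + e - p := ⟨-z - 1, by linear_combination (-1 : ℤ) * hz + (e : ℤ) * hε1⟩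
      have := hsmall _ h (by rw [abs_lt]; omega)
      omega
    have hgf : g₀ = f := by
      obtain ⟨c, hc'⟩ := hfg
      rcases c with _ | _ | c
      · omega
      · omega
      · have : f * 2 ≤ f * (c + 1 + 1) := Nat.mul_le_mul_left f (by omega)
        omega
    subst hgf
    have hcardN : Nat.card (normalizer ((P : Subgroup G) : Set G)) = e * p := by
      have h1 : (P : Subgroup G) ≤ normalizer ((P : Subgroup G) : Set G) := Subgroup.le_normalizer
      have h := ((P : Subgroup G).subgroupOf (normalizer ((P : Subgroup G) : Set G))).index_mul_card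
      rw [Nat.card_congr (Subgroup.subgroupOfEquivOfLe h1).toEquiv, hP] at h
      rw [← h, he, hcent]
      rfl
    have hsyl : Nat.card (Sylow p G) * e = q ^ b * f := by
      have h := (normalizer ((P : Subgroup G) : Set G)).index_mul_card
      rw [hcardN, hcard] at h
      rw [P.card_eq_index_normalizer]
      refine Nat.eq_of_mul_eq_mul_right hp.pos ?_
      rw [mul_assoc]
      show (normalizer ((P : Subgroup G) : Set G)).index * (e * p) = _
      rw [h]; ring
    have hedvdG : e ∣ p * q ^ b * f := by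
      rw [mul_assoc, ← hsyl]
      exact dvd_mul_of_dvd_right (dvd_mul_left e _) p
    have hcop : Nat.Coprime e p := Nat.Coprime.symm (hp.coprime_iff_not_dvd.2 fun hd => by
      have := Nat.le_of_dvd hepos hd
      omega)
    have hcop' : Nat.Coprime e f := by
      rw [Nat.coprime_iff_gcd_eq_one]
      refine Nat.eq_one_of_dvd_coprimes hcop (Nat.gcd_dvd_left e f) ?_
      rw [← hfe]
      exact dvd_add (Nat.gcd_dvd_right e f) (Nat.gcd_dvd_left e f)
    have heq : e ∣ q ^ b := by
      rw [mul_assoc] at hedvdG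
      exact hcop'.dvd_of_dvd_mul_right (hcop.dvd_of_dvd_mul_left hedvdG)
    have hqe : q ∣ e := by
      obtain ⟨j, -, hj⟩ := (Nat.dvd_prime_pow hq).1 heq
      rcases j with _ | j
      · rw [pow_zero] at hj; omega
      · rw [hj]; exact dvd_pow_self q (Nat.succ_ne_zero j)
    have hq2 : q = 2 := by
      have h1 : (q : ℤ) ∣ (f : ℤ) + 1 := by
        rw [show (f : ℤ) + 1 = -∑ χ ∈ X'.erase (trivChar G), εX χ * (charDegree (χ : G → ℂ) : ℤ) by
          rw [hε1] at hθ1; linarith, dvd_neg]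
        exact hqdvd
      have h1' : q ∣ f + 1 := by exact_mod_cast h1
      have h2 : q ∣ p + 1 := by
        rw [← hfe, show f + e + 1 = f + 1 + e by ring]
        exact dvd_add h1' hqe
      have h3 : q ∣ 2 := by
        rw [show 2 = p + 1 - (p - 1) by omega]
        exact Nat.dvd_sub h2 (hqe.trans hedvd)
      exact (Nat.prime_dvd_prime_iff_eq hq Nat.prime_two).1 h3
    subst hq2
    set X₀ := X'.erase (trivChar G) with hX0
    have hmem0 : ∀ χ ∈ X₀, χ ∈ X ∧ χ ≠ trivChar G := fun χ hχ =>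
      ⟨(hmemX χ).1 (Finset.mem_of_mem_erase hχ), Finset.ne_of_mem_erase hχ⟩
    have D : Data p b f e P X₀ εX θ := by
      refine ⟨hp, hp2, hna, hcard, hfe, he2, hes, hedvd, hedvdG, hqf, hP, hcent, hsyl,
        Finset.notMem_erase _ _, fun h => Set.disjoint_left.1 hdisj (hmem0 θ h).1 hθ, hθne, ?_,
        fun χ hχ => (hX χ (hmem0 χ hχ).1).1, fun χ hχ => (hX χ (hmem0 χ hχ).1).2.1,
        fun χ hχ => hXdeg χ (hmem0 χ hχ).1 (hmem0 χ hχ).2, rfl, ?_⟩
      · rw [hX0, Finset.card_erase_add_one ((hmemX _).2 hTX), hX', ← Set.ncard_eq_toFinset_card _ _,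
          ← Nat.card_coe_set_eq, hXc]
      · intro g hg'
        have h := hrel' θ hθ g hg'
        rw [← Finset.add_sum_erase _ _ ((hmemX _).2 hTX), hεT, hε1, trivChar_apply] at h
        push_cast at h
        linear_combination -h
    obtain ⟨⟨m, hm⟩, hn⟩ := D.bound
    rcases CfsgLib.Perm.FewSylow.brauer P hP hcent (perfect hna) hn with
      ⟨F, i1, i2, hF, -, hiso⟩ | h
    · exact Or.inl ⟨m, F, i1, i2, hF, Or.inl hm, hiso⟩
    · exact Or.inr h

end CfsgLib.BrauerTuan
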