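import Cfsg.Agent.Lib.Recog.BrauerTuan.Arith
import Cfsg.Agent.Lib.Recog.BrauerTuan.Block
import Cfsg.Agent.Lib.Recog.BrauerTuan.Basic
import Cfsg.Agent.Lib.Blocks.SimplePrincipal
import Cfsg.Agent.Lib.Blocks.PrimeSylow.Setup

/-!
# The case of an exceptional degree `p - e`
-/

set_option autoImplicit false

namespace CfsgLib.BrauerTuan

open Cfsg CfsgLib.Blocks CfsgLib.Char Subgroup
open scoped _root_.Classical

variable {G : Type*} [Group G] [Fintype G] [Fintype (IrrCharacter G)]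

/-- The data extracted from the principal `p`-block. -/
structure Data (p b f e : ℕ) (P : Sylow p G) (X : Finset (IrrCharacter G))
    (ε : IrrCharacter G → ℤ) (θ : IrrCharacter G) : Prop where
  hp : p.Prime
  hp2 : p ≠ 2
  nc : ¬ IsMulCommutative G
  card : Nat.card G = p * 2 ^ b * f
  fe : f + e = p
  e2 : 2 ≤ e
  esmall : 2 * e + 1 ≤ p
  edvd : e ∣ p - 1
  edvdG : e ∣ p * 2 ^ b * f
  fodd : ¬ 2 ∣ f
  cardP : Nat.card (P : Subgroup G) = p
  cent : centralizer ((P : Subgroup G) : Set G) = (P : Subgroup G)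
  sylow : Nat.card (Sylow p G) * e = 2 ^ b * f
  not_triv : trivChar G ∉ X
  not_theta : θ ∉ X
  theta : θ ≠ trivChar G
  cardX : X.card + 1 = e
  sgn : ∀ χ ∈ X, ε χ = 1 ∨ ε χ = -1
  degmod : ∀ χ ∈ X, (charDegree (χ : G → ℂ) : ℤ) ≡ ε χ [ZMOD p]
  even : ∀ χ ∈ X, 2 ∣ charDegree (χ : G → ℂ)
  degθ : charDegree (θ : G → ℂ) = f
  rel : ∀ g, ¬ p ∣ orderOf g →
    (θ : G → ℂ) g + 1 + ∑ χ ∈ X, (ε χ : ℂ) * (χ : G → ℂ) g = 0

namespace Data

variable {p b f e : ℕ} {P : Sylow p G} {X : Finset (IrrCharacter G)} {ε : IrrCharacter G → ℤ}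
  {θ : IrrCharacter G} (D : Data p b f e P X ε θ)
include D

theorem f_pos : 0 < f := by
  have := D.fe; have := D.esmall; omega

theorem b_pos : 0 < b := by
  rcases Nat.eq_zero_or_pos b with rfl | h
  · exfalso
    have h1 := D.edvdG
    have h2 : Nat.Coprime e p := Nat.Coprime.symm (D.hp.coprime_iff_not_dvd.2 fun hd => by
      have := Nat.le_of_dvd (by have := D.e2; omega) hd
      have := D.esmall
      omega)
    rw [pow_zero, mul_one] at h1
    have h3 : e ∣ f := h2.dvd_of_dvd_mul_left h1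
    have h4 : e ∣ p := by rw [← D.fe]; exact dvd_add h3 dvd_rfl
    have := Nat.eq_one_of_dvd_coprimes h2 dvd_rfl h4
    have := D.e2
    omega
  · exact h

theorem e_eq_two_pow : ∃ k, e = 2 ^ k := by
  have h1 := D.edvdG
  have hlt : e < p := by have := D.esmall; omega
  have h2 : Nat.Coprime e p := Nat.Coprime.symm (D.hp.coprime_iff_not_dvd.2 fun hd => by
    have := Nat.le_of_dvd (by have := D.e2; omega) hd
    omega)
  have h3 : Nat.Coprime e f := by
    rw [Nat.coprime_iff_gcd_eq_one]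
    refine Nat.eq_one_of_dvd_coprimes h2 (Nat.gcd_dvd_left e f) ?_
    rw [← D.fe]
    exact dvd_add (Nat.gcd_dvd_right e f) (Nat.gcd_dvd_left e f)
  rw [mul_assoc] at h1
  obtain ⟨k, -, hk⟩ := (Nat.dvd_prime_pow Nat.prime_two).1
    (h3.dvd_of_dvd_mul_right (h2.dvd_of_dvd_mul_left h1))
  exact ⟨k, hk⟩

theorem eq_one_sum : (f : ℤ) + 1 + ∑ χ ∈ X, ε χ * (charDegree (χ : G → ℂ) : ℤ) = 0 := by
  have h := D.rel 1 (by rw [orderOf_one]; exact D.hp.not_dvd_one)
  simp only [← CharDegree.cast_irrDegree, D.degθ] at h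
  exact_mod_cast h

theorem degree_split {χ : IrrCharacter G} (hχ : χ ∈ X) :
    ∃ a d, d ∣ f ∧ charDegree (χ : G → ℂ) = 2 ^ a * d := by
  have hpd : ¬ p ∣ charDegree (χ : G → ℂ) := fun h => by
    have h1 := (Int.natCast_dvd_natCast.2 h).modEq_zero_int.symm.trans (D.degmod χ hχ)
    have h2 := Int.modEq_iff_dvd.1 h1
    have := D.hp.two_le
    rcases D.sgn χ hχ with e | e <;> rw [e] at h2
    · have := Int.le_of_dvd one_pos (by simpa using h2); omega
    · have := Int.le_of_dvd one_pos (Int.dvd_natAbs.2 h2 |>.trans (by simp)); omega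
  have hd := CharDegree.charDegree_dvd_card χ
  rw [D.card, mul_assoc] at hd
  obtain ⟨d₁, d₂, h1, h2, h3⟩ :=
    Nat.dvd_mul.1 (((D.hp.coprime_iff_not_dvd.2 hpd).symm).dvd_of_dvd_mul_left hd)
  obtain ⟨a, -, rfl⟩ := (Nat.dvd_prime_pow Nat.prime_two).1 h1
  exact ⟨a, d₂, h2, h3.symm⟩

theorem sq_le (χ : IrrCharacter G) : charDegree (χ : G → ℂ) ^ 2 ≤ p * 2 ^ b * f := by
  have h : ∑ ψ : IrrCharacter G, charDegree (ψ : G → ℂ) ^ 2 = Nat.card G := by
    rw [← Nat.cast_inj (R := ℂ), Nat.cast_sum, ← sum_sq_degree]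
    exact Finset.sum_congr rfl fun ψ _ => by rw [← CharDegree.cast_irrDegree, Nat.cast_pow]
  rw [← D.card, ← h]
  exact Finset.single_le_sum (f := fun ψ : IrrCharacter G => charDegree (ψ : G → ℂ) ^ 2)
    (fun _ _ => Nat.zero_le _) (Finset.mem_univ χ)

theorem regular_of_even {g : G} (hg : 2 ∣ orderOf g) : ¬ p ∣ orderOf g := by
  haveI := Fact.mk D.hp
  intro hpg
  obtain ⟨V, hV⟩ := CfsgLib.Blocks.PrimeSylow.exists_setup D.cardP P.not_dvd_index
  obtain ⟨x, hx, hx1, v, hv, hc⟩ := hV.exists_singular hpg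
  have hvP : v ∈ (P : Subgroup G) := D.cent ▸ hV.V_le hv
  obtain ⟨c, hc⟩ := isConj_iff.1 hc
  have ho : orderOf g = orderOf (x * v) := by
    rw [← hc]
    exact (MulEquiv.orderOf_eq (MulAut.conj c) g).symm
  rw [ho] at hg
  have h := orderOf_dvd_natCard (⟨x * v, mul_mem hx hvP⟩ : (P : Subgroup G))
  rw [← orderOf_submonoid, D.cardP] at h
  exact D.hp2 ((Nat.prime_dvd_prime_iff_eq Nat.prime_two D.hp).1 (hg.trans h)).symm

/-- The members outside the principal `2`-block. -/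
theorem exists_outside [IsSimpleGroup G] : ∃ T : Finset (IrrCharacter G), T ⊆ X ∧
    (2 : ℤ) ^ b ∣ ∑ χ ∈ T, ε χ * (charDegree (χ : G → ℂ) : ℤ) ∧
    ∀ χ ∈ X, ∀ a, charDegree (χ : G → ℂ) = 2 ^ a → χ ∈ T := by
  haveI := Fact.mk Nat.prime_two
  obtain ⟨M, hM⟩ := CfsgLib.ZStar.exists_isPModular Nat.prime_two
  haveI := hM.2.1.isPrime
  set B := principalBlock M G
  have hB : IsPBlock M B := CfsgLib.ZStar.isPBlock_principalBlock
  let c : IrrCharacter G → ℤ := fun ξ =>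
    (if ξ = trivChar G then 1 else 0) + (if ξ = θ then 1 else 0) + (if ξ ∈ X then ε ξ else 0)
  have hsum : ∀ (S : Finset (IrrCharacter G)) (h : IrrCharacter G → ℂ),
      ∑ ξ ∈ S, (c ξ : ℂ) * h ξ = (if trivChar G ∈ S then h (trivChar G) else 0) +
        (if θ ∈ S then h θ else 0) + ∑ χ ∈ S ∩ X, (ε χ : ℂ) * h χ := by
    intro S h
    simp only [c, Int.cast_add, Int.cast_ite, Int.cast_one, Int.cast_zero, add_mul, ite_mul, one_mul,
      zero_mul, Finset.sum_add_distrib, Finset.sum_ite_eq', Finset.sum_ite_mem]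
  have hvan : ∀ g, 2 ∣ orderOf g → ∑ ξ, (c ξ : ℂ) * (ξ : G → ℂ) g = 0 := by
    intro g hg
    rw [hsum, if_pos (Finset.mem_univ _), if_pos (Finset.mem_univ _), Finset.univ_inter,
      trivChar_apply, ← D.rel g (D.regular_of_even hg)]
    ring
  set S := ((Set.toFinite B).toFinset)ᶜ with hS
  have hS0 : ∀ g, 2 ∣ orderOf g → ∑ ξ ∈ S, (c ξ : ℂ) * (ξ : G → ℂ) g = 0 := by
    intro g hg
    have h1 := hvan g hg
    rw [← Finset.sum_add_sum_compl (Set.toFinite B).toFinset,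
      sum_block_singular hM hB (fun ξ => (c ξ : ℂ)) hvan hg, zero_add] at h1
    exact h1
  obtain ⟨Q⟩ : Nonempty (Sylow 2 G) := inferInstance
  have hQ : Nat.card (Q : Subgroup G) = 2 ^ b := CfsgLib.Perm.sylow_card_eq Q (m := p * f)
    (by rw [D.card]; ring) (fun h => (Nat.prime_two.dvd_mul.1 h).elim
      (fun h => D.hp2 ((Nat.prime_dvd_prime_iff_eq Nat.prime_two D.hp).1 h).symm) D.fodd)
  have hdvd := card_dvd_of_vanish (Q : Subgroup G) S c fun y hy hy1 => hS0 y (by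
    have h := orderOf_dvd_natCard (⟨y, hy⟩ : (Q : Subgroup G))
    rw [← orderOf_submonoid, hQ] at h
    obtain ⟨j, -, hj⟩ := (Nat.dvd_prime_pow Nat.prime_two).1 h
    rcases j with _ | j
    · exact absurd (orderOf_eq_one_iff.1 (by rw [hj, pow_zero])) hy1
    · rw [hj]; exact dvd_pow_self 2 (Nat.succ_ne_zero j))
  rw [hQ] at hdvd
  have htriv : trivChar G ∉ S := by
    simp only [hS, Finset.mem_compl, Set.Finite.mem_toFinset, not_not]
    exact CfsgLib.ZStar.trivChar_mem_principalBlock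
  have hval : ∑ ξ ∈ S, c ξ * (charDegree (ξ : G → ℂ) : ℤ) =
      (if θ ∈ S then (f : ℤ) else 0) + ∑ χ ∈ S ∩ X, ε χ * (charDegree (χ : G → ℂ) : ℤ) := by
    have h := hsum S fun ξ => (charDegree (ξ : G → ℂ) : ℂ)
    rw [if_neg htriv, zero_add, D.degθ] at h
    have h' : ((∑ ξ ∈ S, c ξ * (charDegree (ξ : G → ℂ) : ℤ) : ℤ) : ℂ) =
        (((if θ ∈ S then (f : ℤ) else 0) + ∑ χ ∈ S ∩ X, ε χ * (charDegree (χ : G → ℂ) : ℤ) : ℤ) : ℂ) := by
      push_cast [apply_ite (Int.cast : ℤ → ℂ)]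
      exact h
    exact_mod_cast h'
  rw [hval] at hdvd
  push_cast at hdvd
  have hθ : θ ∉ S := by
    intro hθ
    rw [if_pos hθ] at hdvd
    have h2 : (2 : ℤ) ∣ ∑ χ ∈ S ∩ X, ε χ * (charDegree (χ : G → ℂ) : ℤ) :=
      Finset.dvd_sum fun χ hχ => dvd_mul_of_dvd_right
        (by exact_mod_cast D.even χ (Finset.mem_inter.1 hχ).2) _
    exact D.fodd (by exact_mod_cast (dvd_add_left h2).1 ((dvd_pow_self 2 D.b_pos.ne').trans hdvd))
  rw [if_neg hθ, zero_add] at hdvd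
  refine ⟨S ∩ X, Finset.inter_subset_right, hdvd, fun χ hχ a ha => Finset.mem_inter.2 ⟨?_, hχ⟩⟩
  simp only [hS, Finset.mem_compl, Set.Finite.mem_toFinset]
  intro hmem
  refine D.not_triv ?_
  have hna : ∃ x y : G, x * y ≠ y * x := by
    by_contra! h
    exact D.nc ⟨⟨h⟩⟩
  have := eq_trivChar_of_mem_principalBlock_prime_pow hM hna hmem (k := a)
    (by rw [← CharDegree.cast_irrDegree, ha]; push_cast; rfl)
  rwa [← this]

theorem sylow_modEq : ((2 ^ b * f : ℕ) : ℤ) ≡ e [ZMOD p] := by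
  haveI := Fact.mk D.hp
  rw [← D.sylow]
  push_cast
  have h := card_sylow_modEq_one p G
  simpa using (Int.natCast_modEq_iff.2 h).mul_right (e : ℤ)

/-- `e = 2`. -/
theorem bound_two [IsSimpleGroup G] (he : e = 2) :
    (∃ m, p = 2 ^ m + 1) ∧ 2 * Nat.card (Sylow p G) < (p + 1) * (p + 2) := by
  obtain ⟨χ, hχ⟩ := Finset.card_eq_one.1 (show X.card = 1 by have := D.cardX; omega)
  have hmem : χ ∈ X := by rw [hχ]; exact Finset.mem_singleton_self _
  have h1 := D.eq_one_sum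
  rw [hχ, Finset.sum_singleton] at h1
  have hfe := D.fe
  have hdeg : charDegree (χ : G → ℂ) + 1 = p ∧ ε χ = -1 := by
    rcases D.sgn χ hmem with h | h <;> rw [h] at h1 <;> omega
  obtain ⟨a, d, hd, had⟩ := D.degree_split hmem
  have hd1 : d = 1 := by
    have h2 : d ∣ f + 1 := by
      rw [show f + 1 = charDegree (χ : G → ℂ) by omega, had]
      exact dvd_mul_left _ _
    exact Nat.dvd_one.1 ((Nat.dvd_add_right hd).1 h2)
  rw [hd1, mul_one] at had
  refine ⟨⟨a, by omega⟩, ?_⟩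
  obtain ⟨T, hT, hdvd, hmemT⟩ := D.exists_outside
  have hTe : T = {χ} := Finset.Subset.antisymm (hχ ▸ hT)
    (Finset.singleton_subset_iff.2 (hmemT χ hmem a had))
  rw [hTe, Finset.sum_singleton, hdeg.2, neg_one_mul, dvd_neg] at hdvd
  have hle : 2 ^ b ≤ 2 ^ a := by
    have h2 : 2 ^ b ∣ 2 ^ a := by
      rw [← had, ← Int.natCast_dvd_natCast]
      exact_mod_cast hdvd
    exact Nat.le_of_dvd (by positivity) h2
  have hs := D.sylow
  rw [he] at hs
  have : 2 ^ b * f ≤ p * p := Nat.mul_le_mul (by omega) (by omega)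
  nlinarith

/-- `e ≥ 4`. -/
theorem bound_big [IsSimpleGroup G] (he : e ≠ 2) :
    (∃ m, p = 2 ^ m + 1) ∧ 2 * Nat.card (Sylow p G) < (p + 1) * (p + 2) := by
  obtain ⟨k, hk⟩ := D.e_eq_two_pow
  have hk2 : 2 ≤ k := by
    rcases k with _ | _ | k
    · have := D.e2; rw [hk] at this; simp at this
    · exact absurd (by rw [hk]; rfl) he
    · omega
  have he4 : 4 ∣ e := by
    rw [hk]; exact (show (4 : ℕ) = 2 ^ 2 by norm_num) ▸ pow_dvd_pow 2 hk2
  have hp4 : 4 ∣ p - 1 := he4.trans D.edvd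
  have hfe := D.fe
  have hf0 := D.f_pos
  have hp2 := D.hp.two_le
  have hes := D.esmall
  have he2 := D.e2
  -- a member of degree `p + 1`
  obtain ⟨χ₁, hχ₁, hn4⟩ : ∃ χ ∈ X, ¬ 4 ∣ charDegree (χ : G → ℂ) := by
    by_contra! h
    have h4 : (4 : ℤ) ∣ ∑ χ ∈ X, ε χ * (charDegree (χ : G → ℂ) : ℤ) :=
      Finset.dvd_sum fun χ hχ => dvd_mul_of_dvd_right (by exact_mod_cast h χ hχ) _
    have := D.eq_one_sum
    omega
  obtain ⟨a, d, hd, had⟩ := D.degree_split hχ₁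
  have ha1 : a = 1 := by
    rcases a with _ | _ | a
    · exfalso
      rw [pow_zero, one_mul] at had
      exact D.fodd ((had ▸ D.even χ₁ hχ₁).trans hd)
    · rfl
    · exact absurd (had ▸ dvd_mul_of_dvd_left (show 4 ∣ 2 ^ (a + 2) from
        (show (4 : ℕ) = 2 ^ 2 by norm_num) ▸ pow_dvd_pow 2 (by omega)) d) hn4
  subst ha1
  have hdle : d ≤ f := Nat.le_of_dvd hf0 hd
  have hd2 : charDegree (χ₁ : G → ℂ) = 2 * d := by rw [had, pow_one]
  obtain ⟨w, hw⟩ := Int.modEq_iff_dvd.1 (D.degmod χ₁ hχ₁)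
  have hplus : charDegree (χ₁ : G → ℂ) = p + 1 := by
    have hw1 : w = -1 := by
      rcases lt_trichotomy w (-1) with h | h | h
      · have : (p : ℤ) * w ≤ p * (-2) := by nlinarith
        rcases D.sgn χ₁ hχ₁ with e1 | e1 <;> rw [e1] at hw <;> omega
      · exact h
      · rcases eq_or_lt_of_le (show 0 ≤ w by omega) with h0 | h0
        · subst h0
          rcases D.sgn χ₁ hχ₁ with e1 | e1 <;> rw [e1] at hw <;> omega
        · have : (p : ℤ) ≤ p * w := by nlinarith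
          rcases D.sgn χ₁ hχ₁ with e1 | e1 <;> rw [e1] at hw <;> omega
    subst hw1
    rcases D.sgn χ₁ hχ₁ with e1 | e1 <;> rw [e1] at hw <;> omega
  have hdf : d = f := by
    rcases eq_or_lt_of_le hdle with h | h
    · exact h
    · exfalso
      obtain ⟨c, hc⟩ := hd
      rcases c with _ | _ | c
      · omega
      · omega
      · have : d * 2 ≤ d * (c + 1 + 1) := Nat.mul_le_mul_left d (by omega)
        omega
  subst hdf
  have hp' : p = 2 ^ (k + 1) + 1 := by rw [pow_succ]; omega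
  set m := k + 1 with hm
  have hm3 : 3 ≤ m := by omega
  have hfm : d = 2 ^ (m - 1) + 1 := by
    have : m - 1 = k := by omega
    rw [this]
    have h1 : 2 ^ m = 2 * 2 ^ k := by rw [← pow_succ']
    omega
  have hpm : 2 ^ m = 2 * 2 ^ (m - 1) := by rw [← pow_succ', show m - 1 + 1 = m by omega]
  refine ⟨⟨m, hp'⟩, ?_⟩
  -- all the degrees
  have hform : ∀ χ ∈ X, ∃ (i : ℕ) (u : ℤ), ε χ * (charDegree (χ : G → ℂ) : ℤ) =
      (-(2 ^ m : ℤ)) ^ i * u ∧ ((u = 1 ∧ charDegree (χ : G → ℂ) = 2 ^ (m * i)) ∨ u = 2 ^ m + 2) ∧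
      2 ^ (m * i) ≤ charDegree (χ : G → ℂ) := by
    intro χ hχ
    obtain ⟨a, d', hd', had'⟩ := D.degree_split hχ
    obtain ⟨i, hcase, hε⟩ := degree_form (p := p) (m := m) (by omega) hp' (D.sgn χ hχ)
      (hfm ▸ hd') (had' ▸ D.degmod χ hχ)
    have hy : (-(2 ^ m : ℤ)) ^ i = (-1) ^ i * 2 ^ (m * i) := by rw [neg_pow, pow_mul]
    rcases hcase with ⟨-, h1⟩ | ⟨-, h1⟩
    · refine ⟨i, 1, ?_, Or.inl ⟨rfl, had'.trans h1⟩, ?_⟩
      · rw [hy, had', h1, hε]; push_cast; ring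
      · rw [had', h1]
    · refine ⟨i, 2 ^ m + 2, ?_, Or.inr rfl, ?_⟩
      · rw [hy, had', h1, hε, hp']; push_cast; ring
      · rw [had', h1]; exact Nat.le_mul_of_pos_right _ (by omega)
  choose! i u hval hu hlow using hform
  obtain ⟨T, hT, hdvd, hmemT⟩ := D.exists_outside
  have hTne : T.Nonempty := by
    rw [Finset.nonempty_iff_ne_empty]
    intro hT0
    have hall : ∀ χ ∈ X, ((p + 1 : ℕ) : ℤ) ∣ ε χ * (charDegree (χ : G → ℂ) : ℤ) := by
      intro χ hχ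
      rcases hu χ hχ with ⟨-, h1⟩ | h1
      · exact absurd (hmemT χ hχ _ h1) (by rw [hT0]; exact Finset.notMem_empty χ)
      · rw [hval χ hχ, h1, hp']
        refine dvd_mul_of_dvd_right (dvd_of_eq ?_) _
        push_cast; ring
    have h2 := Finset.dvd_sum hall
    have h3 := D.eq_one_sum
    have h4 : ((p + 1 : ℕ) : ℤ) ∣ ((d + 1 : ℕ) : ℤ) := by
      rw [show ((d + 1 : ℕ) : ℤ) = -∑ χ ∈ X, ε χ * (charDegree (χ : G → ℂ) : ℤ) by push_cast; linarith,
        dvd_neg]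
      exact h2
    have := Nat.le_of_dvd (by omega) (Int.natCast_dvd_natCast.1 h4)
    omega
  rw [Finset.sum_congr rfl fun χ hχ => hval χ (hT hχ)] at hdvd
  obtain ⟨χ, hχT, hbd⟩ := pow_dvd_sum_bound (m := m) T hTne
    (by
      have := Finset.card_le_card hT
      have := D.cardX
      omega) i u
    fun χ hχ => (hu χ (hT hχ)).imp And.left id
  have hb := hbd b hdvd
  -- bound on `i`
  have hsq : 2 ^ (m * i χ) * 2 ^ (m * i χ) ≤ p * 2 ^ b * d :=
    le_trans (Nat.mul_le_mul (hlow χ (hT hχT)) (hlow χ (hT hχT)))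
      (by have := D.sq_le χ; rwa [sq] at this)
  have h2b : 2 ^ b ≤ 2 ^ (m * i χ) * 2 ^ (m - 1) := by
    rw [← pow_add]; exact Nat.pow_le_pow_right two_pos (by omega)
  have hi : 2 ^ (m * i χ) < 2 ^ (3 * m) := by
    have h1 : 2 ^ (m * i χ) * 2 ^ (m * i χ) ≤ 2 ^ (m * i χ) * (p * 2 ^ (m - 1) * d) :=
      hsq.trans (by
        calc p * 2 ^ b * d ≤ p * (2 ^ (m * i χ) * 2 ^ (m - 1)) * d := by gcongr
          _ = _ := by ring)
    refine lt_of_le_of_lt (Nat.le_of_mul_le_mul_left h1 (by positivity)) ?_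
    have h8 : 4 ≤ 2 ^ (m - 1) := le_trans (by norm_num) (Nat.pow_le_pow_right two_pos (show 2 ≤ m - 1 by omega))
    rw [show 3 * m = m + m + m by ring, pow_add, pow_add, hpm, hp', hpm, hfm]
    nlinarith
  have hi3 : m * i χ < 3 * m := (Nat.pow_lt_pow_iff_right one_lt_two).1 hi
  have hi2 : i χ < 3 := Nat.lt_of_mul_lt_mul_left (by rwa [mul_comm 3 m] at hi3)
  have hb3 : b < 3 * m := by
    have : m * i χ ≤ m * 2 := Nat.mul_le_mul_left m (by omega)
    omega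
  -- the congruence
  have hcong : ((2 ^ b : ℕ) : ℤ) ≡ -1 [ZMOD p] := by
    have h1 := D.sylow_modEq.mul_left 2
    have h2 : (2 : ℤ) * (e : ℤ) ≡ -1 [ZMOD p] :=
      Int.modEq_iff_dvd.2 ⟨-1, by omega⟩
    have h3 : ((2 ^ b : ℕ) : ℤ) ≡ 2 * ((2 ^ b * d : ℕ) : ℤ) [ZMOD p] := by
      refine Int.modEq_iff_dvd.2 ⟨((2 ^ b : ℕ) : ℤ), ?_⟩
      rw [hp', hfm, hpm]
      push_cast
      ring
    exact h3.trans (h1.trans h2)
  have hbm := eq_of_pow_modEq (by omega) hp' hcong hb3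
  have hs := D.sylow
  rw [hbm, hpm, show 2 * 2 ^ (m - 1) * d = 2 * d * 2 ^ (m - 1) by ring,
    show e = 2 ^ (m - 1) by omega] at hs
  rw [Nat.eq_of_mul_eq_mul_right (by positivity) hs]
  nlinarith

theorem bound [IsSimpleGroup G] :
    (∃ m, p = 2 ^ m + 1) ∧ 2 * Nat.card (Sylow p G) < (p + 1) * (p + 2) := by
  by_cases he : e = 2
  · exact D.bound_two he
  · exact D.bound_big he

end Data

end CfsgLib.BrauerTuan
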